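import Groth.Agent.Lib.Helper16.ARR.LamLine
import Groth.Agent.S3792
import Groth.Prelude.Def_KRR
import Mathlib

/-!
# Bott's cannibalistic class of `e ℓ⁻¹` after splitting (helper16)
-/

set_option autoImplicit false
universe v

open Finset

namespace Groth.Agent.Lib.Helper16.ARR

open LambdaRing Groth.Agent.Lib.Helper16

section Bott

variable {K : Type v} [CommRing K] [LambdaRing.LambdaOps K] {L : Type v} [CommRing L]

/-- The image of the Bott class under a ring map sending the `λ^i x` to the elementary symmetric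
functions of a family `U`. -/
theorem map_bott_eq (P : PosStructure K) (j : ℕ) (x : K) (m : ℕ) (hm : (P.aug x).toNat = m)
    (g : K →+* L) (U : Fin m → L)
    (h : ∀ i : Fin m, g (LambdaOps.lam (i.1 + 1) x) = (Finset.univ.val.map U).esymm (i.1 + 1)) :
    g (KRR.bott P j x) = ∏ i, ∑ k ∈ Finset.range j, U i ^ k := by
  subst hm
  rw [KRR.bott]
  have h1 := MvPolynomial.comp_aeval_apply
    (f := fun i : Fin (P.aug x).toNat => LambdaOps.lam (i.1 + 1) x) g.toIntAlgHom
    (KRR.bottPoly j (P.aug x).toNat)
  rw [RingHom.toIntAlgHom_apply] at h1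
  rw [h1]
  have h2 : (fun i : Fin (P.aug x).toNat => g.toIntAlgHom (LambdaOps.lam (i.1 + 1) x)) =
      fun i => MvPolynomial.aeval U
        (MvPolynomial.esymm (Fin (P.aug x).toNat) ℤ (i.1 + 1)) := by
    funext i
    rw [RingHom.toIntAlgHom_apply, h i, MvPolynomial.aeval_esymm_eq_multiset_esymm]
  rw [h2]
  have h4 := MvPolynomial.comp_aeval_apply
    (f := fun i : Fin (P.aug x).toNat => MvPolynomial.esymm (Fin (P.aug x).toNat) ℤ (i.1 + 1))
    (MvPolynomial.aeval U : MvPolynomial (Fin (P.aug x).toNat) ℤ →ₐ[ℤ] L)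
    (KRR.bottPoly j (P.aug x).toNat)
  rw [← h4]
  have h3 : MvPolynomial.aeval
      (fun i : Fin (P.aug x).toNat => MvPolynomial.esymm (Fin (P.aug x).toNat) ℤ (i.1 + 1))
      (KRR.bottPoly j (P.aug x).toNat) = KRR.bottSym j (P.aug x).toNat := by
    rw [← MvPolynomial.esymmAlgHom_apply, KRR.bottPoly]
    have := (MvPolynomial.esymmAlgEquiv (Fin (P.aug x).toNat) ℤ
      (Fintype.card_fin (P.aug x).toNat)).apply_symm_apply
        ⟨KRR.bottSym j (P.aug x).toNat, KRR.bottSym_isSymmetric j (P.aug x).toNat⟩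
    exact congrArg Subtype.val this
  rw [h3, KRR.bottSym, map_prod]
  simp

/-- Homogeneity of the elementary symmetric functions. -/
theorem esymm_map_mul_right (s : Multiset L) (v : L) (n : ℕ) :
    (s.map (· * v)).esymm n = v ^ n * s.esymm n := by
  rw [Multiset.esymm, Multiset.esymm, ← Multiset.sum_map_mul_left, Multiset.powersetCard_map,
    Multiset.map_map]
  refine congrArg _ (Multiset.map_congr rfl fun t ht => ?_)
  rw [Function.comp_apply, Multiset.prod_map_mul, Multiset.map_id', Multiset.map_const',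
    Multiset.prod_replicate, (Multiset.mem_powersetCard.mp ht).2, mul_comm]

end Bott

end Groth.Agent.Lib.Helper16.ARR
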