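import Mathlib

/-!
# Reproducing kernel for `A[T]/(p)` and the change of variable `T ↦ T^j`

Abstract algebraic core of the Adams–Riemann–Roch theorem for an elementary projection.
-/

namespace Groth.Agent.Lib.Helper16.ARR

open Polynomial Finset

section Core

variable {A B : Type*} [CommRing A] [CommRing B] [Algebra A B]

/-- `Λ(G) = Σ_k τ(G_k) L^k`. -/
noncomputable def Lam (τ : B →ₗ[A] A) (L : B) : B[X] →ₗ[A] B :=
  Polynomial.lsum fun k => (LinearMap.toSpanSingleton A B (L ^ k)).comp τ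

theorem Lam_monomial (τ : B →ₗ[A] A) (L : B) (k : ℕ) (g : B) :
    Lam τ L (monomial k g) = τ g • L ^ k := by
  rw [Lam, Polynomial.lsum_apply, Polynomial.sum_monomial_index]
  · rfl
  · simp

theorem Lam_eq_sum (τ : B →ₗ[A] A) (L : B) (G : B[X]) (n : ℕ) (hn : G.natDegree < n) :
    Lam τ L G = ∑ k ∈ range n, τ (G.coeff k) • L ^ k := by
  rw [Lam, Polynomial.lsum_apply, Polynomial.sum_over_range' _ _ n hn]
  · rfl
  · intro k; simp

theorem Lam_map_mul (τ : B →ₗ[A] A) (L : B) (P : A[X]) (G : B[X]) :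
    Lam τ L (P.map (algebraMap A B) * G) = aeval L P * Lam τ L G := by
  induction P using Polynomial.induction_on' with
  | add P₁ P₂ h₁ h₂ => rw [Polynomial.map_add, add_mul, map_add, h₁, h₂, map_add, add_mul]
  | monomial m a =>
    induction G using Polynomial.induction_on' with
    | add G₁ G₂ h₁ h₂ => rw [mul_add, map_add, h₁, h₂, map_add, mul_add]
    | monomial k g =>
      rw [Polynomial.map_monomial, Polynomial.monomial_mul_monomial, Lam_monomial, Lam_monomial,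
        aeval_monomial, ← Algebra.smul_def, map_smul, smul_eq_mul, pow_add]
      simp only [Algebra.smul_def, map_mul]
      ring

/-- the kernel polynomial `p(X)/(X - L)` -/
noncomputable def ker (p : A[X]) (L : B) : B[X] := (p.map (algebraMap A B)) /ₘ (X - C L)

theorem X_sub_C_mul_ker (p : A[X]) (L : B) (hpL : aeval L p = 0) :
    (X - C L) * ker p L = p.map (algebraMap A B) := by
  rw [ker, mul_divByMonic_eq_iff_isRoot, IsRoot, eval_map, ← aeval_def, hpL]

theorem natDegree_ker [Nontrivial B] (p : A[X]) (hp : p.Monic) (L : B) :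
    (ker p L).natDegree = p.natDegree - 1 := by
  rw [ker, natDegree_divByMonic _ (monic_X_sub_C L), natDegree_X_sub_C, hp.natDegree_map]

theorem coeff_ker [Nontrivial B] (p : A[X]) (hp : p.Monic) (L : B) (b : ℕ) :
    (ker p L).coeff b =
      ∑ i ∈ Icc (b + 1) p.natDegree, L ^ (i - (b + 1)) * algebraMap A B (p.coeff i) := by
  rw [ker, coeff_divByMonic_X_sub_C, hp.natDegree_map]
  simp only [coeff_map]

theorem tau_coeff_ker [Nontrivial B] (p : A[X]) (hp : p.Monic) (L : B) (r : ℕ)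
    (hdeg : p.natDegree = r + 1) (τ : B →ₗ[A] A) (hτ0 : ∀ i < r, τ (L ^ i) = 0)
    (hτr : τ (L ^ r) = 1) (b : ℕ) : τ ((ker p L).coeff b) = if b = 0 then 1 else 0 := by
  rw [coeff_ker p hp, map_sum, hdeg]
  have key : ∀ i ∈ Icc (b + 1) (r + 1), τ (L ^ (i - (b + 1)) * algebraMap A B (p.coeff i)) =
      if i = r + 1 ∧ b = 0 then 1 else 0 := by
    intro i hi
    rw [mem_Icc] at hi
    rw [mul_comm, ← Algebra.smul_def, map_smul, smul_eq_mul]
    by_cases h : i = r + 1 ∧ b = 0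
    · obtain ⟨rfl, rfl⟩ := h
      have : p.coeff (r + 1) = 1 := by rw [← hdeg]; exact hp.coeff_natDegree
      simp [this, hτr]
    · rw [if_neg h, hτ0, mul_zero]
      omega
  rw [sum_congr rfl key]
  by_cases hb : b = 0
  · subst hb
    simp
  · simp [hb]

theorem Lam_ker [Nontrivial B] (p : A[X]) (hp : p.Monic) (L : B) (r : ℕ)
    (hdeg : p.natDegree = r + 1) (τ : B →ₗ[A] A) (hτ0 : ∀ i < r, τ (L ^ i) = 0)
    (hτr : τ (L ^ r) = 1) : Lam τ L (ker p L) = 1 := by
  rw [Lam_eq_sum τ L _ (r + 1) (by rw [natDegree_ker p hp, hdeg]; omega)]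
  rw [sum_congr rfl fun k _ => by rw [tau_coeff_ker p hp L r hdeg τ hτ0 hτr k]]
  simp

theorem Lam_pow_mul_ker [Nontrivial B] (p : A[X]) (hp : p.Monic) (L : B) (r : ℕ)
    (hdeg : p.natDegree = r + 1) (hpL : aeval L p = 0) (τ : B →ₗ[A] A)
    (hτ0 : ∀ i < r, τ (L ^ i) = 0) (hτr : τ (L ^ r) = 1) (i : ℕ) :
    Lam τ L (C (L ^ i) * ker p L) = L ^ i := by
  obtain ⟨g, hg⟩ := sub_dvd_pow_sub_pow (X : B[X]) (C L) i
  have h1 : C (L ^ i) * ker p L =
      ((X : A[X]) ^ i).map (algebraMap A B) * ker p L - p.map (algebraMap A B) * g := by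
    rw [← X_sub_C_mul_ker p L hpL, Polynomial.map_pow, map_X, C_pow]
    have : (X : B[X]) ^ i = C L ^ i + (X - C L) * g := by rw [← hg]; ring
    rw [this]
    ring
  rw [h1, map_sub, Lam_map_mul, Lam_map_mul, hpL, zero_mul, sub_zero,
    Lam_ker p hp L r hdeg τ hτ0 hτr, mul_one, aeval_X_pow]

theorem Lam_C_mul_ker [Nontrivial B] (p : A[X]) (hp : p.Monic) (L : B) (r : ℕ)
    (hdeg : p.natDegree = r + 1) (hpL : aeval L p = 0) (τ : B →ₗ[A] A)
    (hτ0 : ∀ i < r, τ (L ^ i) = 0) (hτr : τ (L ^ r) = 1)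
    (hspan : ∀ x : B, x ∈ Submodule.span A (Set.range fun i : ℕ => L ^ i)) (x : B) :
    Lam τ L (C x * ker p L) = x := by
  induction hspan x using Submodule.span_induction with
  | mem y hy =>
    obtain ⟨i, rfl⟩ := hy
    exact Lam_pow_mul_ker p hp L r hdeg hpL τ hτ0 hτr i
  | zero => simp
  | add y z _ _ hy hz => rw [C_add, add_mul, map_add, hy, hz]
  | smul a y _ hy =>
    rw [Algebra.smul_def, C_mul, mul_assoc, ← Algebra.smul_def]
    have : C (algebraMap A B a) * (C y * ker p L) = a • (C y * ker p L) := by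
      rw [Algebra.smul_def]; rfl
    rw [this, map_smul, hy]

theorem Lam_C_mul_expand_sum (τ : B →ₗ[A] A) (L : B) (j : ℕ) (z : B) (G : B[X]) :
    Lam τ L (C z * expand B j G) = G.sum fun b g => τ (z * g) • (L ^ j) ^ b := by
  induction G using Polynomial.induction_on' with
  | add G₁ G₂ h₁ h₂ =>
    rw [map_add, mul_add, map_add, h₁, h₂, Polynomial.sum_add_index]
    · intro i; simp
    · intro i a b; rw [mul_add, map_add, add_smul]
  | monomial b g =>
    rw [expand_monomial, C_mul_monomial, Lam_monomial, Polynomial.sum_monomial_index]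
    · rw [← pow_mul, mul_comm j b]
    · simp

theorem Lam_C_mul_expand (τ : B →ₗ[A] A) (L : B) (j : ℕ) (z : B) (G : B[X]) (n : ℕ)
    (hn : G.natDegree < n) :
    Lam τ L (C z * expand B j G) = ∑ b ∈ range n, τ (z * G.coeff b) • (L ^ j) ^ b := by
  rw [Lam_C_mul_expand_sum, Polynomial.sum_over_range' _ _ n hn]
  intro k; simp

/-- the polynomial `q(X, L) = (X^j - L^j)/(X - L)` -/
noncomputable def qPol (L : B) (j : ℕ) : B[X] := ∑ i ∈ range j, X ^ i * C L ^ (j - 1 - i)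

theorem qPol_mul (L : B) (j : ℕ) : qPol L j * (X - C L) = X ^ j - C L ^ j :=
  geom_sum₂_mul _ _ _

theorem eval_qPol (L : B) (j : ℕ) : (qPol L j).eval L = (j : B) * L ^ (j - 1) := by
  rw [qPol, eval_finsetSum]
  have : ∀ i ∈ range j, (X ^ i * C L ^ (j - 1 - i) : B[X]).eval L = L ^ (j - 1) := by
    intro i hi
    rw [mem_range] at hi
    rw [eval_mul, eval_pow, eval_X, eval_pow, eval_C, ← pow_add]
    congr 1; omega
  rw [sum_congr rfl this]
  simp

/-- the kernel for `p_j = ψ(p)` in the variable `X^j` -/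
noncomputable def kerJ (p : A[X]) (L : B) (ΨB : B →+* B) (j : ℕ) : B[X] :=
  expand B j ((ker p L).map ΨB)

theorem X_pow_sub_mul_kerJ (p : A[X]) (L : B) (hpL : aeval L p = 0) (j : ℕ)
    (ΨA : A →+* A) (ΨB : B →+* B)
    (hΨ : ∀ a, ΨB (algebraMap A B a) = algebraMap A B (ΨA a)) (hΨL : ΨB L = L ^ j)
    (Q : A[X]) (hQ : expand A j (p.map ΨA) = p * Q) :
    (X ^ j - C L ^ j) * kerJ p L ΨB j = (p * Q).map (algebraMap A B) := by
  have h1 := congrArg (Polynomial.map ΨB) (X_sub_C_mul_ker p L hpL)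
  rw [Polynomial.map_mul, Polynomial.map_sub, map_X, map_C, hΨL, Polynomial.map_map] at h1
  have h2 : ΨB.comp (algebraMap A B) = (algebraMap A B).comp ΨA := RingHom.ext hΨ
  rw [h2, ← Polynomial.map_map] at h1
  have h3 := congrArg (expand B j) h1
  rw [map_mul, map_sub, expand_X, expand_C, ← map_expand (f := algebraMap A B), hQ] at h3
  rw [kerJ, ← h3, C_pow]

theorem qPol_mul_kerJ (p : A[X]) (L : B) (hpL : aeval L p = 0) (j : ℕ)
    (ΨA : A →+* A) (ΨB : B →+* B)
    (hΨ : ∀ a, ΨB (algebraMap A B a) = algebraMap A B (ΨA a)) (hΨL : ΨB L = L ^ j)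
    (Q : A[X]) (hQ : expand A j (p.map ΨA) = p * Q) :
    qPol L j * kerJ p L ΨB j = Q.map (algebraMap A B) * ker p L := by
  apply (monic_X_sub_C L).isRegular.left
  show (X - C L) * (qPol L j * kerJ p L ΨB j) = (X - C L) * (Q.map (algebraMap A B) * ker p L)
  have h1 := X_pow_sub_mul_kerJ p L hpL j ΨA ΨB hΨ hΨL Q hQ
  rw [← qPol_mul] at h1
  calc (X - C L) * (qPol L j * kerJ p L ΨB j) = qPol L j * (X - C L) * kerJ p L ΨB j := by ring
    _ = (p * Q).map (algebraMap A B) := h1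
    _ = (X - C L) * ker p L * Q.map (algebraMap A B) := by
      rw [X_sub_C_mul_ker p L hpL, Polynomial.map_mul]
    _ = _ := by ring

/-- `(G(X) - G(L)) ker ∈ (p)`. -/
theorem exists_mul_ker_eq (p : A[X]) (L : B) (hpL : aeval L p = 0) (G : B[X]) :
    ∃ G₁ : B[X], G * ker p L = C (G.eval L) * ker p L + G₁ * p.map (algebraMap A B) := by
  obtain ⟨G₁, hG₁⟩ := X_sub_C_dvd_sub_C_eval (a := L) (p := G)
  refine ⟨G₁, ?_⟩
  rw [← X_sub_C_mul_ker p L hpL]
  have : G = C (G.eval L) + (X - C L) * G₁ := by rw [← hG₁]; ring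
  conv_lhs => rw [this]
  ring

theorem exists_kerJ_sub_ker (p : A[X]) (L : B) (hpL : aeval L p = 0) (j : ℕ)
    (ΨA : A →+* A) (ΨB : B →+* B)
    (hΨ : ∀ a, ΨB (algebraMap A B a) = algebraMap A B (ΨA a)) (hΨL : ΨB L = L ^ j)
    (Q : A[X]) (hQ : expand A j (p.map ΨA) = p * Q)
    (y₀ : B) (hy₀ : y₀ * aeval L Q = (j : B) * L ^ (j - 1))
    (hunit : IsUnit (AdjoinRoot.mk (p.map (algebraMap A B)) (qPol L j))) :
    ∃ W : B[X], C y₀ * kerJ p L ΨB j = ker p L + W * p.map (algebraMap A B) := by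
  obtain ⟨G₁, hG₁⟩ := exists_mul_ker_eq p L hpL (Q.map (algebraMap A B))
  obtain ⟨G₂, hG₂⟩ := exists_mul_ker_eq p L hpL (qPol L j)
  rw [eval_map, ← aeval_def] at hG₁
  rw [eval_qPol] at hG₂
  -- (C y₀ * kerJ - ker) * q ∈ (p)
  have h1 : (C y₀ * kerJ p L ΨB j - ker p L) * qPol L j =
      (C y₀ * G₁ - G₂) * p.map (algebraMap A B) := by
    have := qPol_mul_kerJ p L hpL j ΨA ΨB hΨ hΨL Q hQ
    calc (C y₀ * kerJ p L ΨB j - ker p L) * qPol L j
        = C y₀ * (qPol L j * kerJ p L ΨB j) - qPol L j * ker p L := by ring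
      _ = C y₀ * (C (aeval L Q) * ker p L + G₁ * p.map (algebraMap A B)) -
            (C ((j : B) * L ^ (j - 1)) * ker p L + G₂ * p.map (algebraMap A B)) := by
          rw [this, hG₁, hG₂]
      _ = C (y₀ * aeval L Q) * ker p L - C ((j : B) * L ^ (j - 1)) * ker p L +
            (C y₀ * G₁ - G₂) * p.map (algebraMap A B) := by
          simp only [C_mul]; ring
      _ = _ := by rw [hy₀]; ring
  obtain ⟨u, hu⟩ := hunit.exists_left_inv
  obtain ⟨v, rfl⟩ := AdjoinRoot.mk_surjective u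
  rw [← map_mul, ← map_one (AdjoinRoot.mk (p.map (algebraMap A B))), AdjoinRoot.mk_eq_mk] at hu
  obtain ⟨m, hm⟩ := hu
  refine ⟨v * (C y₀ * G₁ - G₂) - m * (C y₀ * kerJ p L ΨB j - ker p L), ?_⟩
  have h2 : v * qPol L j = 1 + p.map (algebraMap A B) * m := by rw [← hm]; ring
  calc C y₀ * kerJ p L ΨB j
      = ker p L + (C y₀ * kerJ p L ΨB j - ker p L) * (v * qPol L j) -
          (C y₀ * kerJ p L ΨB j - ker p L) * (p.map (algebraMap A B) * m) := by
        rw [h2]; ring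
    _ = ker p L + v * ((C y₀ * kerJ p L ΨB j - ker p L) * qPol L j) -
          (C y₀ * kerJ p L ΨB j - ker p L) * (p.map (algebraMap A B) * m) := by ring
    _ = _ := by rw [h1]; ring

theorem expansion_pow [Nontrivial B] (p : A[X]) (hp : p.Monic) (L : B) (r : ℕ)
    (hdeg : p.natDegree = r + 1) (hpL : aeval L p = 0) (τ : B →ₗ[A] A)
    (hτ0 : ∀ i < r, τ (L ^ i) = 0) (hτr : τ (L ^ r) = 1)
    (hspan : ∀ x : B, x ∈ Submodule.span A (Set.range fun i : ℕ => L ^ i)) (x : B) :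
    x = ∑ b ∈ range (r + 1), τ (x * (ker p L).coeff b) • L ^ b := by
  have h := Lam_C_mul_ker p hp L r hdeg hpL τ hτ0 hτr hspan x
  have h2 := Lam_C_mul_expand τ L 1 x (ker p L) (r + 1)
    (by rw [natDegree_ker p hp, hdeg]; omega)
  rw [expand_one] at h2
  rw [h2] at h
  simpa using h.symm

theorem expansion_pow_j [Nontrivial B] (p : A[X]) (hp : p.Monic) (L : B) (r : ℕ)
    (hdeg : p.natDegree = r + 1) (hpL : aeval L p = 0) (τ : B →ₗ[A] A)
    (hτ0 : ∀ i < r, τ (L ^ i) = 0) (hτr : τ (L ^ r) = 1)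
    (hspan : ∀ x : B, x ∈ Submodule.span A (Set.range fun i : ℕ => L ^ i))
    (j : ℕ) (ΨA : A →+* A) (ΨB : B →+* B)
    (hΨ : ∀ a, ΨB (algebraMap A B a) = algebraMap A B (ΨA a)) (hΨL : ΨB L = L ^ j)
    (Q : A[X]) (hQ : expand A j (p.map ΨA) = p * Q)
    (y₀ : B) (hy₀ : y₀ * aeval L Q = (j : B) * L ^ (j - 1))
    (hunit : IsUnit (AdjoinRoot.mk (p.map (algebraMap A B)) (qPol L j))) (x : B) :
    x = ∑ b ∈ range (r + 1), τ (x * y₀ * ΨB ((ker p L).coeff b)) • (L ^ j) ^ b := by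
  obtain ⟨W, hW⟩ := exists_kerJ_sub_ker p L hpL j ΨA ΨB hΨ hΨL Q hQ y₀ hy₀ hunit
  have h1 : Lam τ L (C (x * y₀) * kerJ p L ΨB j) = x := by
    have : C (x * y₀) * kerJ p L ΨB j =
        C x * ker p L + p.map (algebraMap A B) * (C x * W) := by
      rw [C_mul, mul_assoc, hW]; ring
    rw [this, map_add, Lam_map_mul, hpL, zero_mul, add_zero,
      Lam_C_mul_ker p hp L r hdeg hpL τ hτ0 hτr hspan x]
  have hdeg' : ((ker p L).map ΨB).natDegree < r + 1 := by
    have := natDegree_map_le (f := ΨB) (p := ker p L)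
    rw [natDegree_ker p hp, hdeg] at this
    omega
  rw [kerJ, Lam_C_mul_expand τ L j (x * y₀) _ (r + 1) hdeg'] at h1
  simp only [coeff_map] at h1
  exact h1.symm

theorem coeff_ker_top [Nontrivial B] (p : A[X]) (hp : p.Monic) (L : B) (r : ℕ)
    (hdeg : p.natDegree = r + 1) : (ker p L).coeff r = 1 := by
  rw [coeff_ker p hp, hdeg]
  have : Icc (r + 1) (r + 1) = {r + 1} := by simp
  rw [this, sum_singleton, Nat.sub_self, pow_zero, one_mul, ← hdeg, hp.coeff_natDegree, map_one]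

/-- The abstract Adams–Riemann–Roch identity for the functional `τ`. -/
theorem core (L : B) (r : ℕ) (p : A[X]) (hp : p.Monic) (hdeg : p.natDegree = r + 1)
    (hpL : aeval L p = 0)
    (τ : B →ₗ[A] A) (hτ0 : ∀ i < r, τ (L ^ i) = 0) (hτr : τ (L ^ r) = 1)
    (bas : Module.Basis (Fin (r + 1)) A B) (hbas : ∀ i, bas i = L ^ (i : ℕ))
    (j : ℕ) (ΨA : A →+* A) (ΨB : B →+* B)
    (hΨ : ∀ a, ΨB (algebraMap A B a) = algebraMap A B (ΨA a)) (hΨL : ΨB L = L ^ j)
    (Q : A[X]) (hQ : expand A j (p.map ΨA) = p * Q)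
    (y₀ : B) (hy₀ : y₀ * aeval L Q = (j : B) * L ^ (j - 1))
    (hunit : IsUnit (AdjoinRoot.mk (p.map (algebraMap A B)) (qPol L j))) (x : B) :
    ΨA (τ x) = τ (y₀ * ΨB x) := by
  rcases subsingleton_or_nontrivial B with hB | hB
  · have : (1 : A) = 0 := by rw [← hτr, Subsingleton.elim (L ^ r) 0, map_zero]
    have hA : Subsingleton A := subsingleton_of_zero_eq_one this.symm
    exact Subsingleton.elim _ _
  have hA : Nontrivial A := (algebraMap A B).domain_nontrivial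
  have hspan : ∀ x : B, x ∈ Submodule.span A (Set.range fun i : ℕ => L ^ i) := by
    intro x
    have := bas.mem_span x
    refine Submodule.span_mono ?_ this
    rintro _ ⟨i, rfl⟩
    exact ⟨i, (hbas i).symm⟩
  -- the powers of `L^j` form a linearly independent family
  have hli : LinearIndependent A (fun b : Fin (r + 1) => (L ^ j) ^ (b : ℕ)) := by
    apply linearIndependent_of_top_le_span_of_card_eq_finrank
    · intro x _
      rw [expansion_pow_j p hp L r hdeg hpL τ hτ0 hτr hspan j ΨA ΨB hΨ hΨL Q hQ y₀ hy₀ hunit x]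
      refine Submodule.sum_mem _ fun b hb => Submodule.smul_mem _ _ (Submodule.subset_span ?_)
      exact ⟨⟨b, mem_range.mp hb⟩, rfl⟩
    · rw [Module.finrank_eq_card_basis bas]
  -- two expansions of `ΨB x`
  have e1 := congrArg ΨB (expansion_pow p hp L r hdeg hpL τ hτ0 hτr hspan x)
  rw [map_sum] at e1
  have e1' : ΨB x = ∑ b ∈ range (r + 1), ΨA (τ (x * (ker p L).coeff b)) • (L ^ j) ^ b := by
    rw [e1]
    refine sum_congr rfl fun b _ => ?_
    rw [Algebra.smul_def, map_mul, hΨ, map_pow, hΨL, ← Algebra.smul_def]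
  have e2 := expansion_pow_j p hp L r hdeg hpL τ hτ0 hτr hspan j ΨA ΨB hΨ hΨL Q hQ y₀ hy₀ hunit
    (ΨB x)
  have e3 : ∑ b : Fin (r + 1), (ΨA (τ (x * (ker p L).coeff b)) -
      τ (ΨB x * y₀ * ΨB ((ker p L).coeff b))) • (L ^ j) ^ (b : ℕ) = 0 := by
    simp only [sub_smul, sum_sub_distrib]
    rw [Fin.sum_univ_eq_sum_range (fun b => ΨA (τ (x * (ker p L).coeff b)) • (L ^ j) ^ b),
      Fin.sum_univ_eq_sum_range
        (fun b => τ (ΨB x * y₀ * ΨB ((ker p L).coeff b)) • (L ^ j) ^ b), ← e1', ← e2, sub_self]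
  have e4 := Fintype.linearIndependent_iff.mp hli _ e3 ⟨r, Nat.lt_succ_self r⟩
  rw [sub_eq_zero] at e4
  simp only [coeff_ker_top p hp L r hdeg, mul_one, map_one] at e4
  rw [e4, mul_comm]

end Core

end Groth.Agent.Lib.Helper16.ARR
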