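import Groth.Agent.Lib.Helper16.ARR.Bott
import Groth.Agent.Lib.Helper16.ARR.Kernel
import Groth.Agent.Lib.Helper41.ElemExtDual
import Mathlib

/-!
# The polynomial `p_e` under the Adams operation `ψ^j` (helper16)

`ψ^j(p_e)(X^j) = p_e(X) · Q(X)` with `Q(ℓ) = ℓ^{(j-1)(r+1)} θ^j(e ℓ⁻¹)`.
-/

set_option autoImplicit false
universe v

open Finset Polynomial

namespace Groth.Agent.Lib.Helper16.ARR

open LambdaRing Groth.Agent.Lib.Helper16

section ExtPoly

variable {K : Type v} [CommRing K] [LambdaRing.LambdaOps K] (P : PosStructure K)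
variable {Ke : Type v} [CommRing Ke] [LambdaRing.LambdaOps Ke] (Pe : PosStructure Ke)

/-- Splitting data for `of e`, indexed by `Fin (r + 1)`. -/
theorem exists_split_fin (of : K →+* Ke) (hext : IsExtension P Pe of)
    (hsplit : HasSplitting Ke Pe) (e : K) (he : e ∈ P.pos) (r : ℕ) (hr : P.aug e = r + 1) :
    ∃ (L : PosLambdaRing.{v}) (g : Ke →+* L.carrier), IsExtension Pe L.posStr g ∧
      HasSplitting L.carrier L.posStr ∧
      ∃ U : Fin (r + 1) → L.carrier, (∀ i, L.posStr.IsLine (U i)) ∧ ∑ i, U i = g (of e) := by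
  obtain ⟨L, g, hg, hL, s, hs, hsum⟩ := split_one' hsplit (of e) (hext.pos_subset e he)
  refine ⟨L, g, hg, hL, ?_⟩
  induction s using Quot.inductionOn with
  | h l =>
    have hlen : l.length = r + 1 := by
      have h1 : L.posStr.aug ((l : Multiset L.carrier)).sum = (l.length : ℤ) :=
        aug_sum_lines L.posStr _ hs
      have hsum' : ((l : Multiset L.carrier)).sum = g (of e) := hsum
      rw [hsum', hg.aug_comp, hext.aug_comp, hr] at h1
      exact_mod_cast h1.symm
    refine ⟨fun i => l.get (Fin.cast hlen.symm i), fun i => hs _ ?_, ?_⟩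
    · exact Multiset.mem_coe.mpr (List.get_mem l _)
    · have hsum' : ((l : Multiset L.carrier)).sum = g (of e) := hsum
      rw [← hsum']
      have h2 : ∑ i : Fin (r + 1), l.get (Fin.cast hlen.symm i) = ∑ i : Fin l.length, l.get i :=
        Fintype.sum_equiv (finCongr hlen.symm) _ _ (fun i => rfl)
      rw [h2]
      have : (∑ i, l.get i) = (Finset.univ.val.map l.get).sum := rfl
      rw [this, Fin.univ_val_map, List.ofFn_get]

variable {L : Type v} [CommRing L] [LambdaRing.LambdaOps L] (PL : PosStructure L)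

/-- `p_e` splits after splitting `e`. -/
theorem extPoly_map_eq_prod (G : K →+* L) (hG : IsExtension P PL G)
    (e : K) (r : ℕ) (hr : P.aug e = r + 1)
    (U : Fin (r + 1) → L) (hU : ∀ i, PL.IsLine (U i)) (hsum : ∑ i, U i = G e) :
    (KRR.extPoly P e).map G = ∏ i, (X - C (U i)) := by
  have hm : (P.aug e).toNat = r + 1 := by rw [hr]; omega
  have h1 : ∏ i, (X - C (U i)) = ((Finset.univ.val.map U).map fun t => X - C t).prod := by
    rw [Multiset.map_map]; rfl
  rw [h1, Multiset.prod_X_sub_X_eq_sum_esymm, Multiset.card_map]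
  have hcard : Multiset.card (Finset.univ.val : Multiset (Fin (r + 1))) = r + 1 := by simp
  rw [hcard]
  have hdef : KRR.extPoly P e = ∑ i ∈ Finset.range ((P.aug e).toNat + 1),
    Polynomial.C ((-1 : K) ^ i * LambdaRing.LambdaOps.lam i e) *
      Polynomial.X ^ ((P.aug e).toNat - i) := rfl
  rw [hdef, hm, Polynomial.map_sum]
  refine Finset.sum_congr rfl fun i _ => ?_
  have h2 : G (LambdaOps.lam i e) = (Finset.univ.val.map U).esymm i := by
    rw [hG.isLambdaHom, ← hsum]
    have : ∑ i, U i = (Finset.univ.val.map U).sum := rfl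
    rw [this]
    apply Groth.Agent.S3792.lam_sum_lines PL
    intro u hu
    obtain ⟨k, -, rfl⟩ := Multiset.mem_map.mp hu
    exact hU k
  rw [Polynomial.map_mul, Polynomial.map_C, map_mul, map_pow, map_neg, map_one, h2,
    Polynomial.map_pow, Polynomial.map_X, C_mul, C_pow, C_neg, C_1]
  ring

theorem adamsRingHom_apply (hK : HasSplitting K P) (j : ℕ) (x : K) :
    adamsRingHom P hK j x = adams P j x := rfl

/-- `ψ^j(p_e)` splits after splitting `e`. -/
theorem extPoly_map_adams_map (hK : HasSplitting K P) (hL : HasSplitting L PL)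
    (G : K →+* L) (hG : IsExtension P PL G)
    (e : K) (r : ℕ) (hr : P.aug e = r + 1)
    (U : Fin (r + 1) → L) (hU : ∀ i, PL.IsLine (U i)) (hsum : ∑ i, U i = G e) (j : ℕ) :
    ((KRR.extPoly P e).map (adamsRingHom P hK j)).map G = ∏ i, (X - C (U i ^ j)) := by
  have hcomm : G.comp (adamsRingHom P hK j) = (adamsRingHom PL hL j).comp G := by
    ext x
    exact (adams_map hG j x).symm
  rw [Polynomial.map_map, hcomm, ← Polynomial.map_map,
    extPoly_map_eq_prod P PL G hG e r hr U hU hsum, Polynomial.map_prod]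
  refine prod_congr rfl fun i _ => ?_
  rw [Polynomial.map_sub, map_X, map_C, adamsRingHom_apply, adams_line PL (hU i)]

omit [LambdaRing.LambdaOps L] in
theorem expand_prod_X_sub_C_pow {m : ℕ} (U : Fin m → L) (j : ℕ) :
    expand L j (∏ i, (X - C (U i ^ j))) = (∏ i, (X - C (U i))) * ∏ i, qPol (U i) j := by
  rw [map_prod, ← prod_mul_distrib]
  refine prod_congr rfl fun i _ => ?_
  rw [map_sub, expand_X, expand_C, C_pow, ← qPol_mul, mul_comm]

/-- The quotient `Q = ψ^j(p_e)(X^j) / p_e`. -/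
theorem exists_quotient (hK : HasSplitting K P) (hL : HasSplitting L PL)
    (G : K →+* L) (hG : IsExtension P PL G)
    (e : K) (r : ℕ) (hr : P.aug e = r + 1)
    (U : Fin (r + 1) → L) (hU : ∀ i, PL.IsLine (U i)) (hsum : ∑ i, U i = G e) (j : ℕ) :
    ∃ Q : K[X], expand K j ((KRR.extPoly P e).map (adamsRingHom P hK j)) = KRR.extPoly P e * Q ∧
      Q.map G = ∏ i, qPol (U i) j := by
  have hmonic : (KRR.extPoly P e).Monic := Groth.Agent.Lib.Helper41.ElemExtDual.extPoly_monic P e
  set F := expand K j ((KRR.extPoly P e).map (adamsRingHom P hK j)) with hF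
  have hFmap : F.map G = (KRR.extPoly P e).map G * ∏ i, qPol (U i) j := by
    rw [hF, map_expand, extPoly_map_adams_map P PL hK hL G hG e r hr U hU hsum j,
      expand_prod_X_sub_C_pow, extPoly_map_eq_prod P PL G hG e r hr U hU hsum]
  have hinj : Function.Injective (Polynomial.map G) := Polynomial.map_injective G hG.injective
  have hmod : F %ₘ KRR.extPoly P e = 0 := by
    apply hinj
    rw [Polynomial.map_modByMonic G hmonic, hFmap, Polynomial.map_zero]
    rw [Polynomial.modByMonic_eq_zero_iff_dvd (hmonic.map G)]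
    exact dvd_mul_right _ _
  have hdiv : F = KRR.extPoly P e * (F /ₘ KRR.extPoly P e) := by
    have := Polynomial.modByMonic_add_div F (KRR.extPoly P e)
    rw [hmod, zero_add] at this
    exact this.symm
  refine ⟨F /ₘ KRR.extPoly P e, hdiv, ?_⟩
  apply (hmonic.map G).isRegular.left
  show (KRR.extPoly P e).map G * (F /ₘ KRR.extPoly P e).map G =
    (KRR.extPoly P e).map G * ∏ i, qPol (U i) j
  rw [← Polynomial.map_mul, ← hdiv, hFmap]

theorem aug_inv_line {ℓ linv : Ke} (hline : Pe.IsLine ℓ) (hlinv : linv * ℓ = 1) :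
    Pe.aug linv = 1 := by
  have := congrArg Pe.aug hlinv
  rw [map_mul, hline.2, mul_one, map_one] at this
  exact this

/-- The image of the Bott class of `e ℓ⁻¹` in a splitting extension. -/
theorem map_bott_inv (of : K →+* Ke) (hext : IsExtension P Pe of) (hsplit : HasSplitting Ke Pe)
    (g : Ke →+* L) (hg : IsExtension Pe PL g)
    (e : K) (r : ℕ) (hr : P.aug e = r + 1) {ℓ linv : Ke} (hline : Pe.IsLine ℓ)
    (hlinv : linv * ℓ = 1)
    (U : Fin (r + 1) → L) (hU : ∀ i, PL.IsLine (U i)) (hsum : ∑ i, U i = g (of e)) (j : ℕ) :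
    g (KRR.bott Pe j (of e * linv)) = ∏ i, ∑ k ∈ range j, (U i * g linv) ^ k := by
  have hm : (Pe.aug (of e * linv)).toNat = r + 1 := by
    rw [map_mul, hext.aug_comp, hr, aug_inv_line Pe hline hlinv, mul_one]
    omega
  apply map_bott_eq Pe j (of e * linv) (r + 1) hm g (fun i => U i * g linv)
  intro i
  rw [lam_mul_inv_line Pe hsplit hline hlinv (of e) (i.1 + 1), map_mul, map_pow,
    hg.isLambdaHom, ← hsum]
  have h1 : ∑ i, U i = (Finset.univ.val.map U).sum := rfl
  have h2 : LambdaOps.lam (i.1 + 1) (Finset.univ.val.map U).sum =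
      (Finset.univ.val.map U).esymm (i.1 + 1) := by
    apply Groth.Agent.S3792.lam_sum_lines PL
    intro u hu
    obtain ⟨k, -, rfl⟩ := Multiset.mem_map.mp hu
    exact hU k
  rw [h1, h2, ← esymm_map_mul_right, Multiset.map_map]
  rfl

omit [LambdaRing.LambdaOps L] in
theorem eval_qPol' (u y : L) (j : ℕ) :
    (qPol u j).eval y = ∑ i ∈ range j, y ^ i * u ^ (j - 1 - i) := by
  rw [qPol, eval_finsetSum]
  refine sum_congr rfl fun i _ => ?_
  rw [eval_mul, eval_pow, eval_X, eval_pow, eval_C]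

omit [LambdaRing.LambdaOps L] in
theorem pow_mul_geom_inv (y v u : L) (hv : v * y = 1) (j : ℕ) :
    y ^ (j - 1) * ∑ k ∈ range j, (u * v) ^ k = ∑ i ∈ range j, y ^ i * u ^ (j - 1 - i) := by
  rw [mul_sum, ← sum_range_reflect]
  refine sum_congr rfl fun k hk => ?_
  rw [mem_range] at hk
  have h1 : y ^ (j - 1) = y ^ k * y ^ (j - 1 - k) := by rw [← pow_add]; congr 1; omega
  have h2 : y ^ (j - 1 - k) * v ^ (j - 1 - k) = 1 := by
    rw [← mul_pow, mul_comm y v, hv, one_pow]
  calc y ^ (j - 1) * (u * v) ^ (j - 1 - k)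
      = y ^ k * u ^ (j - 1 - k) * (y ^ (j - 1 - k) * v ^ (j - 1 - k)) := by
        rw [h1, mul_pow]; ring
    _ = _ := by rw [h2, mul_one]

/-- `Q(ℓ) = ℓ^{(j-1)(r+1)} θ^j(e ℓ⁻¹)`. -/
theorem eval₂_quotient_eq (of : K →+* Ke) (hext : IsExtension P Pe of)
    (hsplit : HasSplitting Ke Pe) (g : Ke →+* L) (hg : IsExtension Pe PL g)
    (e : K) (r : ℕ) (hr : P.aug e = r + 1) {ℓ linv : Ke} (hline : Pe.IsLine ℓ)
    (hlinv : linv * ℓ = 1)
    (U : Fin (r + 1) → L) (hU : ∀ i, PL.IsLine (U i)) (hsum : ∑ i, U i = g (of e)) (j : ℕ)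
    (Q : K[X]) (hQ : Q.map (g.comp of) = ∏ i, qPol (U i) j) :
    Q.eval₂ of ℓ = ℓ ^ ((j - 1) * (r + 1)) * KRR.bott Pe j (of e * linv) := by
  apply hg.injective
  rw [Polynomial.hom_eval₂, ← eval_map, hQ, eval_prod, map_mul, map_pow,
    map_bott_inv P Pe PL of hext hsplit g hg e r hr hline hlinv U hU hsum j]
  have hv : g linv * g ℓ = 1 := by rw [← map_mul, hlinv, map_one]
  have h1 : g ℓ ^ ((j - 1) * (r + 1)) = ∏ _i : Fin (r + 1), g ℓ ^ (j - 1) := by
    rw [prod_const, card_univ, Fintype.card_fin, ← pow_mul]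
  rw [h1, ← prod_mul_distrib]
  refine prod_congr rfl fun i _ => ?_
  rw [eval_qPol', pow_mul_geom_inv (g ℓ) (g linv) (U i) hv j]

/-- The augmentation of `θ^j(e ℓ⁻¹)` is `j^{r+1}`. -/
theorem aug_bott_inv (of : K →+* Ke) (hext : IsExtension P Pe of)
    (hsplit : HasSplitting Ke Pe) (g : Ke →+* L) (hg : IsExtension Pe PL g)
    (e : K) (r : ℕ) (hr : P.aug e = r + 1) {ℓ linv : Ke} (hline : Pe.IsLine ℓ)
    (hlinv : linv * ℓ = 1)
    (U : Fin (r + 1) → L) (hU : ∀ i, PL.IsLine (U i)) (hsum : ∑ i, U i = g (of e)) (j : ℕ) :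
    Pe.aug (KRR.bott Pe j (of e * linv)) = (j : ℤ) ^ (r + 1) := by
  rw [← hg.aug_comp, map_bott_inv P Pe PL of hext hsplit g hg e r hr hline hlinv U hU hsum j,
    map_prod]
  have : ∀ i ∈ (Finset.univ : Finset (Fin (r + 1))),
      PL.aug (∑ k ∈ range j, (U i * g linv) ^ k) = (j : ℤ) := by
    intro i _
    rw [map_sum]
    have : ∀ k ∈ range j, PL.aug ((U i * g linv) ^ k) = 1 := by
      intro k _
      rw [map_pow, map_mul, (hU i).2, hg.aug_comp, aug_inv_line Pe hline hlinv, mul_one, one_pow]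
    rw [sum_congr rfl this]
    simp
  rw [prod_congr rfl this, prod_const, card_univ, Fintype.card_fin]

end ExtPoly

section Main

variable {K : Type v} [CommRing K] [LambdaRing.LambdaOps K] (P : PosStructure K)
variable {Ke : Type v} [CommRing Ke] [LambdaRing.LambdaOps Ke] (Pe : PosStructure Ke)

/-- Summary: the quotient `Q` with its value at `ℓ`, and the augmentation of the Bott class. -/
theorem exists_Q (hK : HasSplitting K P) (of : K →+* Ke) (hext : IsExtension P Pe of)
    (hsplit : HasSplitting Ke Pe) (e : K) (he : e ∈ P.pos) (r : ℕ) (hr : P.aug e = r + 1)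
    {ℓ linv : Ke} (hline : Pe.IsLine ℓ) (hlinv : linv * ℓ = 1) (j : ℕ) :
    (∃ Q : K[X],
      expand K j ((KRR.extPoly P e).map (adamsRingHom P hK j)) = KRR.extPoly P e * Q ∧
      Q.eval₂ of ℓ = ℓ ^ ((j - 1) * (r + 1)) * KRR.bott Pe j (of e * linv)) ∧
    Pe.aug (KRR.bott Pe j (of e * linv)) = (j : ℤ) ^ (r + 1) := by
  obtain ⟨L, g, hg, hL, U, hU, hsum⟩ := exists_split_fin P Pe of hext hsplit e he r hr
  have hG : IsExtension P L.posStr (g.comp of) := isExtension_comp hext hg
  obtain ⟨Q, hQ1, hQ2⟩ := exists_quotient P L.posStr hK hL (g.comp of) hG e r hr U hU hsum j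
  refine ⟨⟨Q, hQ1, ?_⟩, ?_⟩
  · exact eval₂_quotient_eq P Pe L.posStr of hext hsplit g hg e r hr hline hlinv U hU hsum j Q hQ2
  · exact aug_bott_inv P Pe L.posStr of hext hsplit g hg e r hr hline hlinv U hU hsum j

end Main

end Groth.Agent.Lib.Helper16.ARR
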