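import Groth.Agent.Lib.Helper16.LambdaAdams
import Groth.Agent.Lib.Helper16.LambdaGamma
import Mathlib

/-!
# λ-operations of a product with a line element (helper16)

Under the splitting property, `λ_t(x ℓ) = λ_{ℓ t}(x)` for a line element `ℓ`.
-/

set_option autoImplicit false
universe u

open PowerSeries Finset

namespace Groth.Agent.Lib.Helper16.ARR

open LambdaRing Groth.Agent.Lib.Helper16

section

variable {K : Type u} [CommRing K] [LambdaRing.LambdaOps K]

/-- One positive element splits in some extension which again has the splitting property. -/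
theorem split_one' {P : PosStructure K} (hK : HasSplitting K P) (e : K) (he : e ∈ P.pos) :
    ∃ (L : PosLambdaRing.{u}) (g : K →+* L.carrier), IsExtension P L.posStr g ∧
      HasSplitting L.carrier L.posStr ∧
      ∃ s : Multiset L.carrier, (∀ u ∈ s, L.posStr.IsLine u) ∧ s.sum = g e := by
  obtain ⟨C, hKC, hC⟩ := hK
  obtain ⟨L', hL', f, hf, s, hs, hsum⟩ := hC ⟨K, P⟩ hKC e he
  exact ⟨L', f, hf, ⟨C, hL', hC⟩, s, hs, hsum⟩

omit [LambdaOps K] in
theorem rescale_one_add_C_mul_X (u v : K) :
    rescale v (1 + C u * X : K⟦X⟧) = 1 + C (u * v) * X := by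
  rw [map_add, map_one, map_mul, rescale_X, map_mul]
  congr 1
  have : rescale v (C u) = C u := by
    ext n
    rw [coeff_rescale, coeff_C]
    split_ifs with h
    · subst h; simp
    · simp
  rw [this]; ring

/-- `λ_t(s v) = λ_{v t}(s)` for a sum `s` of line elements and a line element `v`. -/
theorem lamSeries_sum_lines_mul (P : PosStructure K) (s : Multiset K)
    (hs : ∀ u ∈ s, P.IsLine u) {v : K} (hv : P.IsLine v) :
    lamSeries (s.sum * v) = rescale v (lamSeries s.sum) := by
  induction s using Multiset.induction_on with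
  | empty => simp [lamSeries_zero]
  | cons u t ih =>
    have hu : P.IsLine u := hs u (Multiset.mem_cons_self u t)
    have ht : ∀ w ∈ t, P.IsLine w := fun w hw => hs w (Multiset.mem_cons_of_mem hw)
    rw [Multiset.sum_cons, add_mul, lamSeries_add, lamSeries_add, map_mul, ih ht,
      lamSeries_line P (isLine_mul P hu hv), lamSeries_line P hu, rescale_one_add_C_mul_X]

theorem lam_mul_line_pos (P : PosStructure K) (hK : HasSplitting K P) {ℓ : K} (hℓ : P.IsLine ℓ)
    (x : K) (hx : x ∈ P.pos) (i : ℕ) :
    LambdaOps.lam i (x * ℓ) = ℓ ^ i * LambdaOps.lam i x := by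
  obtain ⟨L, g, hg, s, hs, hsum⟩ := split_one hK x hx
  apply hg.injective
  rw [hg.isLambdaHom, map_mul, map_mul, map_pow, hg.isLambdaHom, ← hsum]
  have h := congrArg (coeff i) (lamSeries_sum_lines_mul L.posStr s hs (isLine_map hg hℓ))
  rw [coeff_rescale] at h
  simpa [lamSeries] using h

theorem lamSeries_mul_line_pos (P : PosStructure K) (hK : HasSplitting K P) {ℓ : K}
    (hℓ : P.IsLine ℓ) (x : K) (hx : x ∈ P.pos) :
    lamSeries (x * ℓ) = rescale ℓ (lamSeries x) := by
  ext i
  rw [coeff_rescale]
  simpa [lamSeries] using lam_mul_line_pos P hK hℓ x hx i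

/-- `λ_t(x ℓ) = λ_{ℓ t}(x)` for a line element `ℓ`, under the splitting property. -/
theorem lamSeries_mul_line (P : PosStructure K) (hK : HasSplitting K P) {ℓ : K}
    (hℓ : P.IsLine ℓ) (x : K) :
    lamSeries (x * ℓ) = rescale ℓ (lamSeries x) := by
  obtain ⟨a, b, ha, hb, rfl⟩ := P.exists_sub x
  have h1 : lamSeries a = lamSeries (a - b) * lamSeries b := by
    rw [← lamSeries_add, sub_add_cancel]
  have h2 : lamSeries (a * ℓ) = lamSeries ((a - b) * ℓ) * lamSeries (b * ℓ) := by
    rw [← lamSeries_add, ← add_mul, sub_add_cancel]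
  rw [lamSeries_mul_line_pos P hK hℓ a ha, lamSeries_mul_line_pos P hK hℓ b hb, h1, map_mul] at h2
  have hu : IsUnit (rescale ℓ (lamSeries b)) := by
    rw [isUnit_iff_constantCoeff, ← coeff_zero_eq_constantCoeff_apply, coeff_rescale, lamSeries,
      coeff_mk, LambdaOps.lam_zero]
    simp
  exact (hu.mul_left_inj.mp h2).symm

theorem lam_mul_line (P : PosStructure K) (hK : HasSplitting K P) {ℓ : K} (hℓ : P.IsLine ℓ)
    (x : K) (i : ℕ) : LambdaOps.lam i (x * ℓ) = ℓ ^ i * LambdaOps.lam i x := by
  have h := congrArg (coeff i) (lamSeries_mul_line P hK hℓ x)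
  rw [coeff_rescale] at h
  simpa [lamSeries] using h

/-- λ-operations of a product with the inverse of a line element. -/
theorem lam_mul_inv_line (P : PosStructure K) (hK : HasSplitting K P) {ℓ linv : K}
    (hℓ : P.IsLine ℓ) (hinv : linv * ℓ = 1) (x : K) (i : ℕ) :
    LambdaOps.lam i (x * linv) = linv ^ i * LambdaOps.lam i x := by
  have h := lam_mul_line P hK hℓ (x * linv) i
  rw [mul_assoc, hinv, mul_one] at h
  rw [h, ← mul_assoc, ← mul_pow, hinv, one_pow, one_mul]

end

end Groth.Agent.Lib.Helper16.ARR
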