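import Mathlib

/-!
# Base change `R ⊗[ℤ] -` of a finite free algebra with a functional (helper16)
-/

set_option autoImplicit false

open TensorProduct

namespace Groth.Agent.Lib.Helper16.ARR

section TensorBase

variable (R : Type*) [CommRing R] {K Ke : Type*} [CommRing K] [CommRing Ke] [Algebra K Ke]

/-- `R ⊗ K → R ⊗ Ke`. -/
noncomputable def alpha : R ⊗[ℤ] K →+* R ⊗[ℤ] Ke :=
  (Algebra.TensorProduct.map (AlgHom.id ℤ R) (algebraMap K Ke).toIntAlgHom).toRingHom

theorem alpha_tmul (ρ : R) (x : K) :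
    alpha R (K := K) (Ke := Ke) (ρ ⊗ₜ[ℤ] x) = ρ ⊗ₜ[ℤ] algebraMap K Ke x := by
  simp [alpha]

/-- The `R ⊗ K`-algebra structure on `R ⊗ Ke`. -/
@[instance_reducible]
noncomputable def algTB : Algebra (R ⊗[ℤ] K) (R ⊗[ℤ] Ke) := (alpha R).toAlgebra

attribute [local instance] algTB

theorem algebraMap_TB : algebraMap (R ⊗[ℤ] K) (R ⊗[ℤ] Ke) = alpha R := rfl

theorem smul_TB (a : R ⊗[ℤ] K) (b : R ⊗[ℤ] Ke) : a • b = alpha R a * b := rfl

/-- `K → R ⊗ K`. -/
noncomputable def incl (M : Type*) [CommRing M] : M →+* R ⊗[ℤ] M :=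
  (Algebra.TensorProduct.includeRight (R := ℤ) (A := R) (B := M)).toRingHom

theorem incl_apply (M : Type*) [CommRing M] (x : M) : incl R M x = (1 : R) ⊗ₜ[ℤ] x := rfl

theorem alpha_incl (x : K) : alpha R (incl R K x) = incl R Ke (algebraMap K Ke x) := by
  rw [incl_apply, alpha_tmul, incl_apply]

theorem alpha_comp_incl :
    (alpha R (K := K) (Ke := Ke)).comp (incl R K) = (incl R Ke).comp (algebraMap K Ke) :=
  RingHom.ext (alpha_incl R)

/-- The base change of a `K`-linear functional, as an `R ⊗ K`-linear functional. -/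
noncomputable def Ftau (f : Ke →ₗ[K] K) : (R ⊗[ℤ] Ke) →ₗ[R ⊗[ℤ] K] (R ⊗[ℤ] K) where
  toFun := LinearMap.lTensor R f.toAddMonoidHom.toIntLinearMap
  map_add' := map_add _
  map_smul' := by
    intro a b
    rw [RingHom.id_apply, smul_TB, smul_eq_mul]
    induction a using TensorProduct.induction_on with
    | zero => simp
    | add a₁ a₂ h₁ h₂ => rw [map_add, add_mul, map_add, h₁, h₂, add_mul]
    | tmul ρ x =>
      induction b using TensorProduct.induction_on with
      | zero => simp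
      | add b₁ b₂ h₁ h₂ => rw [mul_add, map_add, h₁, h₂, map_add, mul_add]
      | tmul ρ' y =>
        rw [alpha_tmul, Algebra.TensorProduct.tmul_mul_tmul, LinearMap.lTensor_tmul,
          LinearMap.lTensor_tmul, Algebra.TensorProduct.tmul_mul_tmul]
        congr 1
        show f (algebraMap K Ke x * y) = x * f y
        rw [← Algebra.smul_def, map_smul, smul_eq_mul]

theorem Ftau_apply (f : Ke →ₗ[K] K) (b : R ⊗[ℤ] Ke) :
    Ftau R f b = LinearMap.lTensor R f.toAddMonoidHom.toIntLinearMap b := rfl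

theorem Ftau_tmul (f : Ke →ₗ[K] K) (ρ : R) (y : Ke) : Ftau R f (ρ ⊗ₜ[ℤ] y) = ρ ⊗ₜ[ℤ] f y := by
  rw [Ftau_apply, LinearMap.lTensor_tmul]; rfl

theorem Ftau_incl (f : Ke →ₗ[K] K) (y : Ke) : Ftau R f (incl R Ke y) = incl R K (f y) :=
  Ftau_tmul R f 1 y

/-- The base change of a finite basis. -/
theorem exists_basis {ι : Type*} [Fintype ι] [DecidableEq ι] (bK : Module.Basis ι K Ke) :
    ∃ bas : Module.Basis ι (R ⊗[ℤ] K) (R ⊗[ℤ] Ke), ∀ i, bas i = incl R Ke (bK i) := by
  have hcoord : ∀ i k, Ftau R (bK.coord i) (incl R Ke (bK k)) = if i = k then 1 else 0 := by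
    intro i k
    rw [Ftau_incl, Module.Basis.coord_apply, Module.Basis.repr_self, Finsupp.single_apply]
    split_ifs with h1 h2 h2
    · rfl
    · exact absurd h1.symm h2
    · exact absurd h2.symm h1
    · exact map_zero _
  have hli : LinearIndependent (R ⊗[ℤ] K) (fun i => incl R Ke (bK i)) := by
    rw [Fintype.linearIndependent_iff]
    intro c hc i
    have := congrArg (Ftau R (bK.coord i)) hc
    rw [map_sum, map_zero] at this
    simp only [map_smul, hcoord, smul_eq_mul, mul_ite, mul_one, mul_zero] at this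
    simpa using this
  have hsp : ⊤ ≤ Submodule.span (R ⊗[ℤ] K) (Set.range fun i => incl R Ke (bK i)) := by
    intro b hb
    clear hb
    induction b using TensorProduct.induction_on with
    | zero => exact Submodule.zero_mem _
    | add b₁ b₂ h₁ h₂ => exact Submodule.add_mem _ h₁ h₂
    | tmul ρ y =>
      have hy : y = ∑ i, bK.repr y i • bK i := (bK.sum_repr y).symm
      have : ρ ⊗ₜ[ℤ] y = ∑ i, (ρ ⊗ₜ[ℤ] bK.repr y i : R ⊗[ℤ] K) • incl R Ke (bK i) := by
        conv_lhs => rw [hy]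
        rw [TensorProduct.tmul_sum]
        refine Finset.sum_congr rfl fun i _ => ?_
        rw [smul_TB, alpha_tmul, incl_apply, Algebra.TensorProduct.tmul_mul_tmul, mul_one,
          Algebra.smul_def]
      rw [this]
      exact Submodule.sum_mem _ fun i _ =>
        Submodule.smul_mem _ _ (Submodule.subset_span ⟨i, rfl⟩)
  exact ⟨Module.Basis.mk hli hsp, fun i => by rw [Module.Basis.mk_apply]⟩

/-- `R ⊗ φ` for a ring homomorphism `φ`. -/
noncomputable def tmap {M M' : Type*} [CommRing M] [CommRing M'] (φ : M →+* M') :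
    R ⊗[ℤ] M →+* R ⊗[ℤ] M' :=
  (Algebra.TensorProduct.map (AlgHom.id ℤ R) φ.toIntAlgHom).toRingHom

theorem tmap_tmul {M M' : Type*} [CommRing M] [CommRing M'] (φ : M →+* M') (ρ : R) (x : M) :
    tmap R φ (ρ ⊗ₜ[ℤ] x) = ρ ⊗ₜ[ℤ] φ x := by
  simp [tmap]

theorem tmap_incl {M M' : Type*} [CommRing M] [CommRing M'] (φ : M →+* M') (x : M) :
    tmap R φ (incl R M x) = incl R M' (φ x) :=
  tmap_tmul R φ 1 x

theorem tmap_comp_incl {M M' : Type*} [CommRing M] [CommRing M'] (φ : M →+* M') :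
    (tmap R φ).comp (incl R M) = (incl R M').comp φ :=
  RingHom.ext (tmap_incl R φ)

theorem tmap_alpha (φ : K →+* K) (φe : Ke →+* Ke)
    (h : ∀ x, φe (algebraMap K Ke x) = algebraMap K Ke (φ x)) (a : R ⊗[ℤ] K) :
    tmap R φe (alpha R a) = alpha R (tmap R φ a) := by
  induction a using TensorProduct.induction_on with
  | zero => simp
  | add a₁ a₂ h₁ h₂ => rw [map_add, map_add, h₁, h₂, map_add, map_add]
  | tmul ρ x => rw [alpha_tmul, tmap_tmul, tmap_tmul, alpha_tmul, h]

end TensorBase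

end Groth.Agent.Lib.Helper16.ARR
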