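import Groth.Agent.Lib.Helper16.ARR.ExtPoly
import Groth.Agent.Lib.Helper16.ARR.TensorBase
import Groth.Agent.Lib.Helper41.DetLine
import Groth.Agent.Lib.Helper41.AdamsGamma
import Mathlib

/-!
# Adams–Riemann–Roch for an elementary projection: assembly (helper16)
-/

set_option autoImplicit false
universe v

open Finset Polynomial TensorProduct

namespace Groth.Agent.Lib.Helper16.ARR

open LambdaRing Groth.Agent.Lib.Helper16

section Nilp

variable {S : Type*} [CommRing S]

theorem isNilpotent_mul_sub_one {a b : S} (ha : IsNilpotent (a - 1)) (hb : IsNilpotent (b - 1)) :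
    IsNilpotent (a * b - 1) := by
  have : a * b - 1 = (a - 1) * b + (b - 1) := by ring
  rw [this]
  exact Commute.isNilpotent_add (Commute.all _ _) ((Commute.all _ _).isNilpotent_mul_right ha) hb

theorem isNilpotent_pow_sub_one {a : S} (ha : IsNilpotent (a - 1)) (n : ℕ) :
    IsNilpotent (a ^ n - 1) := by
  induction n with
  | zero => simp
  | succ n ih => rw [pow_succ]; exact isNilpotent_mul_sub_one ih ha

theorem isUnit_geom₂ (a b : S) (ha : IsNilpotent (a - 1)) (hb : IsNilpotent (b - 1)) (j : ℕ)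
    (hj : IsUnit (j : S)) : IsUnit (∑ i ∈ range j, a ^ i * b ^ (j - 1 - i)) := by
  have h1 : ∑ i ∈ range j, a ^ i * b ^ (j - 1 - i) =
      (j : S) + ∑ i ∈ range j, (a ^ i * b ^ (j - 1 - i) - 1) := by
    rw [sum_sub_distrib, sum_const, card_range, nsmul_eq_mul, mul_one]; ring
  rw [h1]
  refine IsNilpotent.isUnit_add_left_of_commute ?_ hj (Commute.all _ _)
  exact isNilpotent_sum fun i _ =>
    isNilpotent_mul_sub_one (isNilpotent_pow_sub_one ha i) (isNilpotent_pow_sub_one hb _)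

end Nilp

section Lam

variable {K : Type v} [CommRing K] [LambdaRing.LambdaOps K] (P : PosStructure K)

theorem isNilpotent_of_aug_zero (N : ℕ) (hN : gammaFiltration P N = ⊥) (x : K)
    (hx : P.aug x = 0) : IsNilpotent x := by
  refine ⟨N, ?_⟩
  have := Groth.Agent.Lib.Helper41.AdamsGamma.pow_mem P
    (Groth.Agent.Lib.Helper41.DetLine.mem_one_of_aug_zero P x hx) N
  rw [mul_one, hN] at this
  exact AddSubgroup.mem_bot.mp this

variable {L : Type v} [CommRing L] [LambdaRing.LambdaOps L] (PL : PosStructure L)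

/-- Under the augmentation, `p_e` becomes `(X - 1)^{r+1}`. -/
theorem extPoly_map_aug (G : K →+* L) (hG : IsExtension P PL G)
    (e : K) (r : ℕ) (hr : P.aug e = r + 1)
    (U : Fin (r + 1) → L) (hU : ∀ i, PL.IsLine (U i)) (hsum : ∑ i, U i = G e) :
    (KRR.extPoly P e).map P.aug = (X - C 1) ^ (r + 1) := by
  have h1 : P.aug = PL.aug.comp G := by
    ext x
    exact (hG.aug_comp x).symm
  rw [h1, ← Polynomial.map_map, extPoly_map_eq_prod P PL G hG e r hr U hU hsum,
    Polynomial.map_prod]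
  have : ∀ i ∈ (Finset.univ : Finset (Fin (r + 1))),
      (X - C (U i)).map PL.aug = (X - C 1 : ℤ[X]) := by
    intro i _
    rw [Polynomial.map_sub, map_X, map_C, (hU i).2]
  rw [prod_congr rfl this, prod_const, card_univ, Fintype.card_fin]

end Lam

section Assembly

variable {K : Type v} [CommRing K] [LambdaRing.LambdaOps K] (P : PosStructure K)
variable {Ke : Type v} [CommRing Ke] [LambdaRing.LambdaOps Ke] [Algebra K Ke]
  (Pe : PosStructure Ke)

attribute [local instance] algTB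

theorem isUnit_natCast_tensor (R : Type*) [CommRing R] (M : Type*) [CommRing M] (j : ℕ)
    (hjR : IsUnit (j : R)) : IsUnit ((j : ℕ) : R ⊗[ℤ] M) := by
  have := hjR.map (algebraMap R (R ⊗[ℤ] M))
  rwa [map_natCast] at this

theorem isUnit_mk_qPol (hext : IsExtension P Pe (algebraMap K Ke)) (hsplit : HasSplitting Ke Pe)
    (N : ℕ) (hN : gammaFiltration Pe N = ⊥) (e : K) (he : e ∈ P.pos) (r : ℕ)
    (hr : P.aug e = r + 1) (ℓ : Ke) (hline : Pe.IsLine ℓ)
    (R : Type*) [CommRing R] (j : ℕ) (hjR : IsUnit (j : R)) :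
    IsUnit (AdjoinRoot.mk (((KRR.extPoly P e).map (incl R K)).map
      (algebraMap (R ⊗[ℤ] K) (R ⊗[ℤ] Ke))) (qPol (incl R Ke ℓ) j)) := by
  set pB := ((KRR.extPoly P e).map (incl R K)).map (algebraMap (R ⊗[ℤ] K) (R ⊗[ℤ] Ke)) with hpBdef
  have hpB : pB = ((KRR.extPoly P e).map (algebraMap K Ke)).map (incl R Ke) := by
    rw [hpBdef, Polynomial.map_map, Polynomial.map_map, algebraMap_TB, alpha_comp_incl]
  obtain ⟨L, g, hg, hL, U, hU, hsum⟩ :=
    exists_split_fin P Pe (algebraMap K Ke) hext hsplit e he r hr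
  have haug : (KRR.extPoly P e).map P.aug = (X - C 1) ^ (r + 1) :=
    extPoly_map_aug P L.posStr (g.comp (algebraMap K Ke)) (isExtension_comp hext hg) e r hr U hU
      hsum
  set Ge : Ke[X] := (X - C 1) ^ (r + 1) - (KRR.extPoly P e).map (algebraMap K Ke) with hGedef
  have hGe : IsNilpotent Ge := by
    refine (Polynomial.isNilpotent_iff).mpr fun i => isNilpotent_of_aug_zero Pe N hN _ ?_
    have h0 : Ge.map Pe.aug = 0 := by
      have hc : Pe.aug.comp (algebraMap K Ke) = P.aug := RingHom.ext hext.aug_comp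
      rw [hGedef, Polynomial.map_sub, Polynomial.map_pow, Polynomial.map_sub, map_X, map_C,
        map_one, Polynomial.map_map, hc, haug, sub_self]
    rw [← coeff_map, h0, coeff_zero]
  set Φ : Ke[X] →+* AdjoinRoot pB := (AdjoinRoot.mk pB).comp (mapRingHom (incl R Ke)) with hΦdef
  have hΦ : Φ Ge = (AdjoinRoot.root pB - 1) ^ (r + 1) := by
    rw [hGedef, map_sub, map_pow, map_sub, hΦdef, RingHom.comp_apply, RingHom.comp_apply,
      RingHom.comp_apply, coe_mapRingHom, map_X, map_C, map_one,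
      ← hpB, AdjoinRoot.mk_self, AdjoinRoot.mk_X, sub_zero, map_one, map_one]
  have hnil2 : IsNilpotent (AdjoinRoot.root pB - 1) := by
    have := hGe.map Φ
    rw [hΦ] at this
    exact this.of_pow
  have hnil1 : IsNilpotent (AdjoinRoot.of pB (incl R Ke ℓ) - 1) := by
    have h1 : IsNilpotent (ℓ - 1) :=
      isNilpotent_of_aug_zero Pe N hN _ (by rw [map_sub, hline.2, map_one, sub_self])
    have := h1.map ((AdjoinRoot.of pB).comp (incl R Ke))
    rwa [map_sub, map_one, RingHom.comp_apply] at this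
  have hmk : AdjoinRoot.mk pB (qPol (incl R Ke ℓ) j) =
      ∑ i ∈ range j, AdjoinRoot.root pB ^ i * AdjoinRoot.of pB (incl R Ke ℓ) ^ (j - 1 - i) := by
    rw [qPol, map_sum]
    refine sum_congr rfl fun i _ => ?_
    rw [map_mul, map_pow, map_pow, AdjoinRoot.mk_X, AdjoinRoot.mk_C]
  rw [hmk]
  refine isUnit_geom₂ _ _ hnil2 hnil1 j ?_
  have := (isUnit_natCast_tensor R Ke j hjR).map (AdjoinRoot.of pB)
  rwa [map_natCast] at this

/-- The functional `τ(x) = F(ℓ^{-r} x)`. -/
noncomputable def tauOf (R : Type*) [CommRing R] (f : Ke →ₗ[K] K) (Linv : R ⊗[ℤ] Ke) (r : ℕ) :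
    (R ⊗[ℤ] Ke) →ₗ[R ⊗[ℤ] K] (R ⊗[ℤ] K) where
  toFun x := Ftau R f (Linv ^ r * x)
  map_add' x y := by rw [mul_add, map_add]
  map_smul' a x := by rw [mul_smul_comm, map_smul, RingHom.id_apply]

omit [LambdaRing.LambdaOps K] [LambdaRing.LambdaOps Ke] in
theorem tauOf_apply (R : Type*) [CommRing R] (f : Ke →ₗ[K] K) (Linv : R ⊗[ℤ] Ke) (r : ℕ)
    (x : R ⊗[ℤ] Ke) : tauOf R f Linv r x = Ftau R f (Linv ^ r * x) := rfl

/-- **Adams–Riemann–Roch for an elementary projection**, generic form. -/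
theorem arr_generic (hK : HasSplitting K P) (hext : IsExtension P Pe (algebraMap K Ke))
    (hsplit : HasSplitting Ke Pe) (N : ℕ) (hN : gammaFiltration Pe N = ⊥)
    (e : K) (he : e ∈ P.pos) (r : ℕ) (hr : P.aug e = r + 1)
    (ℓ linv : Ke) (hline : Pe.IsLine ℓ) (hlinv : linv * ℓ = 1)
    (hroot : (KRR.extPoly P e).eval₂ (algebraMap K Ke) ℓ = 0)
    (bK : Module.Basis (Fin (r + 1)) K Ke) (hbK : ∀ i, bK i = ℓ ^ (i : ℕ))
    (f : Ke →ₗ[K] K) (hf1 : f 1 = 1) (hfinv : ∀ n : ℕ, 1 ≤ n → n ≤ r → f (linv ^ n) = 0)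
    (R : Type*) [CommRing R] (j : ℕ) (hj : 1 ≤ j) (hjR : IsUnit (j : R)) :
    (∃ w : R ⊗[ℤ] Ke, w * ((1 : R) ⊗ₜ[ℤ] KRR.bott Pe j (algebraMap K Ke e * linv)) = 1) ∧
    ∀ w : R ⊗[ℤ] Ke, w * ((1 : R) ⊗ₜ[ℤ] KRR.bott Pe j (algebraMap K Ke e * linv)) = 1 →
      ∀ x : Ke, (1 : R) ⊗ₜ[ℤ] adams P j (f x) =
        LinearMap.lTensor R f.toAddMonoidHom.toIntLinearMap
          (((j : ℕ) : R ⊗[ℤ] Ke) * w * ((1 : R) ⊗ₜ[ℤ] adams Pe j x)) := by
  classical
  obtain ⟨⟨Q, hQ1, hQ2⟩, haugθ⟩ :=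
    exists_Q P Pe hK (algebraMap K Ke) hext hsplit e he r hr hline hlinv j
  set θ := KRR.bott Pe j (algebraMap K Ke e * linv) with hθ
  have hjB : IsUnit ((j : ℕ) : R ⊗[ℤ] Ke) := isUnit_natCast_tensor R Ke j hjR
  constructor
  · -- invertibility of `1 ⊗ θ`
    have hnil : IsNilpotent (θ - (j : Ke) ^ (r + 1)) :=
      isNilpotent_of_aug_zero Pe N hN _ (by rw [map_sub, haugθ, map_pow, map_natCast, sub_self])
    have h1 : incl R Ke θ = ((j : ℕ) : R ⊗[ℤ] Ke) ^ (r + 1) + incl R Ke (θ - (j : Ke) ^ (r + 1)) := by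
      rw [map_sub, map_pow, map_natCast]; ring
    have hu : IsUnit (incl R Ke θ) := by
      rw [h1]
      exact IsNilpotent.isUnit_add_left_of_commute (hnil.map _) (hjB.pow _) (Commute.all _ _)
    obtain ⟨w₀, hw₀⟩ := hu.exists_left_inv
    exact ⟨w₀, hw₀⟩
  · intro w hw x
    rcases subsingleton_or_nontrivial (R ⊗[ℤ] K) with hA | hA
    · exact Subsingleton.elim _ _
    have hKnt : Nontrivial K := (incl R K).domain_nontrivial
    -- notation
    set L : R ⊗[ℤ] Ke := incl R Ke ℓ with hL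
    set Linv : R ⊗[ℤ] Ke := incl R Ke linv with hLinv
    have hLL : Linv * L = 1 := by rw [hL, hLinv, ← map_mul, hlinv, map_one]
    set p : (R ⊗[ℤ] K)[X] := (KRR.extPoly P e).map (incl R K) with hp
    have hmonicK : (KRR.extPoly P e).Monic :=
      Groth.Agent.Lib.Helper41.ElemExtDual.extPoly_monic P e
    have hpmonic : p.Monic := hmonicK.map _
    have hm : (P.aug e).toNat = r + 1 := by rw [hr]; omega
    have hdeg : p.natDegree = r + 1 := by
      rw [hp, hmonicK.natDegree_map,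
        Groth.Agent.Lib.Helper41.ElemExtDual.extPoly_natDegree P e (r + 1) hm]
    have hpL : aeval L p = 0 := by
      rw [aeval_def, hp, eval₂_map, algebraMap_TB, alpha_comp_incl, hL, ← Polynomial.hom_eval₂,
        hroot, map_zero]
    set τ := tauOf R f Linv r with hτ
    have hpow : ∀ a b : ℕ, a ≤ b → Linv ^ b * L ^ a = Linv ^ (b - a) := by
      intro a b hab
      obtain ⟨c, rfl⟩ := Nat.exists_eq_add_of_le hab
      rw [Nat.add_sub_cancel_left, pow_add, mul_comm (Linv ^ a), mul_assoc, ← mul_pow, hLL, one_pow,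
        mul_one]
    have hτ0 : ∀ i < r, τ (L ^ i) = 0 := by
      intro i hi
      rw [hτ, tauOf_apply, hpow i r hi.le, hLinv, ← map_pow, Ftau_incl,
        hfinv (r - i) (by omega) (by omega), map_zero]
    have hτr : τ (L ^ r) = 1 := by
      rw [hτ, tauOf_apply, hpow r r le_rfl, Nat.sub_self, pow_zero, ← map_one (incl R Ke),
        Ftau_incl, hf1, map_one]
    obtain ⟨bas, hbas⟩ := exists_basis R bK
    have hbas' : ∀ i, bas i = L ^ (i : ℕ) := by
      intro i
      rw [hbas, hbK, map_pow]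
    -- the Adams operations
    set ψK := adamsRingHom P hK j with hψK
    set ψe := adamsRingHom Pe hsplit j with hψe
    have hψcomm : ∀ y, ψe (algebraMap K Ke y) = algebraMap K Ke (ψK y) := by
      intro y
      exact adams_map hext j y
    have hΨ : ∀ a, tmap R ψe (algebraMap (R ⊗[ℤ] K) (R ⊗[ℤ] Ke) a) =
        algebraMap (R ⊗[ℤ] K) (R ⊗[ℤ] Ke) (tmap R ψK a) := by
      intro a
      rw [algebraMap_TB]
      exact tmap_alpha R ψK ψe hψcomm a
    have hΨL : tmap R ψe L = L ^ j := by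
      rw [hL, tmap_incl, ← map_pow]
      congr 1
      exact adams_line Pe hline j
    have hQ : expand (R ⊗[ℤ] K) j (p.map (tmap R ψK)) = p * Q.map (incl R K) := by
      rw [hp, Polynomial.map_map, tmap_comp_incl, ← Polynomial.map_map, ← map_expand, hQ1,
        Polynomial.map_mul]
    set y₀ : R ⊗[ℤ] Ke := ((j : ℕ) : R ⊗[ℤ] Ke) * w * Linv ^ ((j - 1) * r) with hy₀def
    have hQL : aeval L (Q.map (incl R K)) = L ^ ((j - 1) * (r + 1)) * incl R Ke θ := by
      rw [aeval_def, eval₂_map, algebraMap_TB, alpha_comp_incl, hL, ← Polynomial.hom_eval₂, hQ2,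
        map_mul, map_pow]
    have hy₀ : y₀ * aeval L (Q.map (incl R K)) = ((j : ℕ) : R ⊗[ℤ] Ke) * L ^ (j - 1) := by
      have hw' : w * incl R Ke θ = 1 := hw
      have e1 : (j - 1) * (r + 1) = (j - 1) * r + (j - 1) := by ring
      calc y₀ * aeval L (Q.map (incl R K))
          = ((j : ℕ) : R ⊗[ℤ] Ke) * (w * incl R Ke θ) *
              (Linv ^ ((j - 1) * r) * L ^ ((j - 1) * r)) * L ^ (j - 1) := by
            rw [hQL, hy₀def, e1, pow_add]; ring
        _ = _ := by rw [hw', hpow _ _ le_rfl, Nat.sub_self, pow_zero]; ring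
    have hunit := isUnit_mk_qPol P Pe hext hsplit N hN e he r hr ℓ hline R j hjR
    have key := core L r p hpmonic hdeg hpL τ hτ0 hτr bas hbas' j (tmap R ψK) (tmap R ψe) hΨ hΨL
      (Q.map (incl R K)) hQ y₀ hy₀ hunit (L ^ r * incl R Ke x)
    -- unfold both sides
    have hlhs : τ (L ^ r * incl R Ke x) = incl R K (f x) := by
      rw [hτ, tauOf_apply, ← mul_assoc, hpow r r le_rfl, Nat.sub_self, pow_zero, one_mul, Ftau_incl]
    have hrhs : Linv ^ r * (y₀ * tmap R ψe (L ^ r * incl R Ke x)) =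
        ((j : ℕ) : R ⊗[ℤ] Ke) * w * incl R Ke (adams Pe j x) := by
      have e2 : (j - 1) * r + r = j * r := by
        obtain ⟨k, rfl⟩ := Nat.exists_eq_add_of_le hj
        rw [Nat.add_sub_cancel_left]; ring
      have e3 : Linv ^ r * Linv ^ ((j - 1) * r) * (L ^ j) ^ r = 1 := by
        rw [← pow_add, add_comm, e2, ← pow_mul, hpow _ _ le_rfl, Nat.sub_self, pow_zero]
      rw [map_mul, map_pow, hΨL, tmap_incl, hy₀def]
      calc Linv ^ r * (((j : ℕ) : R ⊗[ℤ] Ke) * w * Linv ^ ((j - 1) * r) *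
            ((L ^ j) ^ r * incl R Ke (ψe x)))
          = ((j : ℕ) : R ⊗[ℤ] Ke) * w * incl R Ke (ψe x) *
              (Linv ^ r * Linv ^ ((j - 1) * r) * (L ^ j) ^ r) := by ring
        _ = _ := by rw [e3, mul_one]; rfl
    rw [hlhs, tmap_incl] at key
    rw [hτ, tauOf_apply, hrhs] at key
    exact key

end Assembly

end Groth.Agent.Lib.Helper16.ARR
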